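import Mathlib.LinearAlgebra.Dual.Lemmas
import Mathlib.RingTheory.Finiteness.Basic
import Mathlib.Analysis.Real.Sqrt
import Mathlib.Data.Rat.BigOperators
import Mathlib.RingTheory.Localization.Integer
import Mathlib.RingTheory.Localization.FractionRing
import Mathlib.Tactic.LinearCombination

/-!
# Additive functionals are bounded by a positive form
-/

set_option autoImplicit false

noncomputable section

namespace Groth.L04.MuBound

variable {L : Type*} [AddCommGroup L] [Module.Finite ℤ L] (b : L →+ L →+ ℚ)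

/-- An additive functional on a finitely generated group is, up to a multiple, pairing with an element. -/
theorem exists_repr (hsymm : ∀ x y, b x y = b y x) (hpos : ∀ x, x ≠ 0 → 0 < b x x) (ℓ : L →+ ℚ) :
    ∃ (N : ℤ) (v : L), N ≠ 0 ∧ ∀ x, b v x = N * ℓ x := by
  classical
  obtain ⟨r, e, he⟩ := Submodule.fg_iff_exists_fin_generating_family.1 (Module.Finite.fg_top (R := ℤ) (M := L))
  have clear' : ∀ c : Fin r → ℚ, ∃ (N : ℤ) (z : Fin r → ℤ), N ≠ 0 ∧ ∀ s, (z s : ℚ) = N * c s := by
    intro c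
    obtain ⟨N, hN⟩ := IsLocalization.exist_integer_multiples_of_finite (nonZeroDivisors ℤ) c
    choose z hz using hN
    refine ⟨N, z, nonZeroDivisors.coe_ne_zero N, fun s => ?_⟩
    have := hz s
    rwa [zsmul_eq_mul] at this
  let A : (Fin r → ℚ) →ₗ[ℚ] (Fin r → ℚ) :=
    LinearMap.pi fun t => ∑ s, (b (e s) (e t)) • LinearMap.proj (R := ℚ) (φ := fun _ : Fin r => ℚ) s
  have hA : ∀ c t, A c t = ∑ s, b (e s) (e t) * c s := fun c t => by simp [A]
  have key : (fun t => ℓ (e t)) ∈ LinearMap.range A := by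
    by_contra hn
    obtain ⟨f, hf, hf0⟩ := Submodule.exists_dual_map_eq_bot_of_notMem hn inferInstance
    obtain ⟨N, z, hN, hz⟩ := clear' fun t => f (Pi.single t 1)
    have hfc : ∀ c : Fin r → ℚ, (N : ℚ) * f c = ∑ t, c t * (z t : ℚ) := by
      intro c
      conv_lhs => rw [pi_eq_sum_univ' c, map_sum]
      rw [Finset.mul_sum]
      refine Finset.sum_congr rfl fun t _ => ?_
      rw [map_smul, smul_eq_mul, hz]
      have : (fun j => if t = j then (1 : ℚ) else 0) = Pi.single t 1 := by
        funext j; simp [Pi.single_apply, eq_comm]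
      simp only [← this]
      ring
    let v : L := ∑ t, z t • e t
    have hb : ∀ s, b (e s) v = 0 := by
      intro s
      have h1 : f (A (Pi.single s 1)) = 0 := by
        have : f (A (Pi.single s 1)) ∈ (LinearMap.range A).map f := ⟨_, LinearMap.mem_range_self _ _, rfl⟩
        rwa [hf0, Submodule.mem_bot] at this
      have h2 := hfc (A (Pi.single s 1))
      rw [h1, mul_zero] at h2
      rw [h2]
      simp only [v, map_sum, map_zsmul, zsmul_eq_mul, hA, Pi.single_apply, mul_ite, mul_one, mul_zero,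
        Finset.sum_ite_eq', Finset.mem_univ, if_true]
      exact Finset.sum_congr rfl fun t _ => mul_comm _ _
    have hvv : b v v = 0 := by
      show b v (∑ t, z t • e t) = 0
      rw [map_sum]
      refine Finset.sum_eq_zero fun t _ => ?_
      rw [map_zsmul, hsymm, hb, smul_zero]
    have hv : v = 0 := by
      by_contra h
      exact absurd hvv (hpos v h).ne'
    refine hf ?_
    have h3 := hfc fun t => ℓ (e t)
    have h4 : ∑ t, ℓ (e t) * (z t : ℚ) = ℓ v := by
      simp only [v, map_sum, map_zsmul, zsmul_eq_mul]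
      exact Finset.sum_congr rfl fun t _ => mul_comm _ _
    rw [h4, hv, map_zero, mul_eq_zero] at h3
    exact h3.resolve_left (Int.cast_ne_zero.2 hN)
  obtain ⟨c, hc⟩ := key
  obtain ⟨N, z, hN, hz⟩ := clear' c
  refine ⟨N, ∑ s, z s • e s, hN, fun x => ?_⟩
  have hgen : ∀ t, b (∑ s, z s • e s) (e t) = N * ℓ (e t) := by
    intro t
    have := congrFun hc t
    rw [hA] at this
    rw [← this, Finset.mul_sum]
    simp only [map_sum, map_zsmul, AddMonoidHom.finsetSum_apply, AddMonoidHom.smul_apply, zsmul_eq_mul]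
    exact Finset.sum_congr rfl fun s _ => by rw [hz]; ring
  have hx : x ∈ Submodule.span ℤ (Set.range e) := he ▸ Submodule.mem_top
  induction hx using Submodule.span_induction with
  | mem y hy => obtain ⟨t, rfl⟩ := hy; exact hgen t
  | zero => simp
  | add y z _ _ hy hz => rw [map_add, hy, hz, map_add, mul_add]
  | smul a y _ hy => rw [map_zsmul, hy, map_zsmul, zsmul_eq_mul, zsmul_eq_mul]; ring

omit [Module.Finite ℤ L] in
/-- Cauchy–Schwarz. -/
theorem sq_le (hsymm : ∀ x y, b x y = b y x) (hpos : ∀ x, x ≠ 0 → 0 < b x x) (v x : L) :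
    b v x ^ 2 ≤ b v v * b x x := by
  by_cases hv : v = 0
  · simp [hv]
  have ha := hpos v hv
  have hnn : ∀ w, 0 ≤ b w w := fun w => by
    by_cases hw : w = 0
    · simp [hw]
    · exact (hpos w hw).le
  set a := b v v
  set c := b v x
  let p : ℤ := a.num * c.den
  let q : ℤ := -(c.num * a.den)
  have hp : (p : ℚ) = (a.den * c.den) * a := by
    simp only [p]; push_cast
    linear_combination -(c.den : ℚ) * Rat.mul_den_eq_num a
  have hq : (q : ℚ) = -((a.den * c.den) * c) := by
    simp only [q]; push_cast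
    linear_combination (a.den : ℚ) * Rat.mul_den_eq_num c
  have h := hnn (p • x + q • v)
  simp only [map_add, map_zsmul, AddMonoidHom.add_apply, AddMonoidHom.smul_apply, zsmul_eq_mul,
    hsymm x v, hp, hq] at h
  have hD : (0 : ℚ) < (a.den : ℚ) * c.den := by
    have h1 := a.den_pos
    have h2 := c.den_pos
    positivity
  have h' : 0 ≤ ((a.den : ℚ) * c.den) ^ 2 * (a * (a * b x x - c ^ 2)) := by
    refine h.trans_eq ?_
    ring
  have h'' : 0 ≤ a * b x x - c ^ 2 :=
    nonneg_of_mul_nonneg_right (nonneg_of_mul_nonneg_right h' (by positivity)) ha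
  linarith

/-- An additive functional is bounded by a multiple of the norm of a positive form. -/
theorem exists_bound (hsymm : ∀ x y, b x y = b y x) (hpos : ∀ x, x ≠ 0 → 0 < b x x) (ℓ : L →+ ℚ) :
    ∃ K : ℝ, 0 ≤ K ∧ ∀ x, |((ℓ x : ℚ) : ℝ)| ≤ K * Real.sqrt (b x x : ℚ) := by
  obtain ⟨N, v, hN, hv⟩ := exists_repr b hsymm hpos ℓ
  have hN' : (0 : ℝ) < |(N : ℝ)| := abs_pos.2 (Int.cast_ne_zero.2 hN)
  refine ⟨Real.sqrt (b v v : ℚ) / |(N : ℝ)|, by positivity, fun x => ?_⟩
  rw [div_mul_eq_mul_div, le_div_iff₀ hN', ← abs_mul]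
  have h := sq_le b hsymm hpos v x
  rw [hv] at h
  have hvv : (0 : ℝ) ≤ (b v v : ℚ) := by
    by_cases hv0 : v = 0
    · simp [hv0]
    · exact_mod_cast (hpos v hv0).le
  rw [← Real.sqrt_mul hvv, mul_comm (_ : ℝ) (N : ℝ)]
  refine Real.le_sqrt_of_sq_le ?_
  rw [sq_abs]
  have h' : ((((N : ℚ) * ℓ x) ^ 2 : ℚ) : ℝ) ≤ ((b v v * b x x : ℚ) : ℝ) := Rat.cast_le.2 h
  push_cast at h'
  exact h'

end Groth.L04.MuBound
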