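import Groth.Agent.L18.GIT.MuTorus
import Groth.Agent.L18.GIT.MuConj
import Groth.Agent.L14.HMProj.Unstable
import Groth.Agent.L08.Borel.TorusImage
import Groth.Agent.L08.Borel.Borels
import Groth.Agent.L14.RedLR.Over
import Groth.Agent.L24.TorusField.Criteria
import Groth.Agent.L14.RankOne.PowHom
import Groth.Agent.L04.MuBound.Bilin

/-!
# One-parameter subgroups of tori and of groups with a maximal torus
-/

set_option autoImplicit false
set_option linter.style.haveILetI false
set_option backward.isDefEq.respectTransparency false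
set_option backward.isDefEq.respectTransparency.types false

universe u

open CategoryTheory CategoryTheory.Limits MonoidalCategory CartesianMonoidalCategory MonObj AlgebraicGeometry

noncomputable section

namespace Groth.L04.MuBound

open Groth.L18.KEval Groth.L18.TorusChars

variable {k : Type u} [Field k] [IsAlgClosed k]

omit [IsAlgClosed k] in
/-- Torus-valued homomorphisms are closed under products. -/
theorem isMonHom_mul {N T : Over (Bs k)} [MonObj N] [GrpObj T]
    (hcomm : ∀ (W : Over (Bs k)) (a b : W ⟶ T), a * b = b * a)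
    (l₁ l₂ : N ⟶ T) [IsMonHom l₁] [IsMonHom l₂] : IsMonHom (l₁ * l₂) := by
  refine ⟨?_, ?_⟩
  · rw [MonObj.comp_mul, IsMonHom.one_hom, IsMonHom.one_hom]
    have h1 : (η[T] : 𝟙_ (Over (Bs k)) ⟶ T) = 1 := by
      rw [Hom.one_def, toUnit_unique (toUnit (𝟙_ (Over (Bs k)))) (𝟙 _), Category.id_comp]
    rw [h1, _root_.one_mul]
  · have hμ : ∀ (N : Over (Bs k)) [MonObj N], (μ[N] : N ⊗ N ⟶ N) = fst N N * snd N N := fun N _ => by
      rw [Hom.mul_def, lift_fst_snd, Category.id_comp]
    rw [hμ T, MonObj.comp_mul, MonObj.comp_mul, tensorHom_fst, tensorHom_snd, hμ N,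
      MonObj.mul_comp, MonObj.mul_comp, MonObj.comp_mul, MonObj.comp_mul]
    simp only [← _root_.mul_assoc]
    congr 1
    simp only [_root_.mul_assoc]
    congr 1
    exact hcomm _ _ _

variable (T : Over (Bs k)) [GrpObj T] [IsCommMonObj T]

/-- The one-parameter subgroups of a commutative group. -/
def cochar : Subgroup (Red.Gm (Bs k) ⟶ T) where
  carrier := {l | IsMonHom l}
  one_mem' := inferInstanceAs (IsMonHom (toUnit (Red.Gm (Bs k)) ≫ η[T]))
  mul_mem' := fun {a b} ha hb => by
    haveI : IsMonHom a := ha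
    haveI : IsMonHom b := hb
    exact isMonHom_mul (fun W x y => by
      letI := Hom.commMonoid (X := W) (M := T)
      exact mul_comm x y) a b
  inv_mem' := fun {a} ha => by
    haveI : IsMonHom a := ha
    show IsMonHom a⁻¹
    infer_instance

instance (l : cochar T) : IsMonHom (l : Red.Gm (Bs k) ⟶ T) := l.2

instance : IsMulCommutative (cochar T) :=
  ⟨⟨fun a b => by
    letI := Hom.commMonoid (X := Red.Gm (Bs k)) (M := T)
    exact Subtype.ext (mul_comm (a : Red.Gm (Bs k) ⟶ T) b)⟩⟩

instance : CommGroup (cochar T) :=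
  { (inferInstance : Group (cochar T)) with mul_comm := fun a b => IsMulCommutative.is_comm.comm a b }

/-- The one-parameter subgroups of a torus form a finitely generated group. -/
theorem finite_cochar (hT : Red.IsTorus T) : Module.Finite ℤ (Additive (cochar T)) := by
  haveI : Infinite k := IsAlgClosed.instInfinite
  obtain ⟨M, _, hM, ⟨e⟩⟩ := Groth.L14.RedLR.exists_split_fg T hT
  haveI : IsAffine T.left := isAffine_of_split e
  obtain ⟨S, hS⟩ := hM.out
  let g : Fin S.card → M := fun i => (S.equivFin.symm i : M)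
  have hg : AddSubgroup.closure (Set.range g) = ⊤ := by
    rw [← hS]
    refine congrArg _ (Set.ext fun x => ⟨?_, fun hx => ⟨S.equivFin ⟨x, hx⟩, by simp [g]⟩⟩)
    rintro ⟨i, rfl⟩
    exact (S.equivFin.symm i).2
  have hmem : ∀ m : Multiplicative M, splitChar e m ∈ algChar T := fun m =>
    ⟨(eX e).hom.left.appTop (mon M m), fun s => by rw [splitChar_eq, evT_comp]⟩
  let Ψ : Additive (cochar T) →+ (Fin S.card → ℤ) := AddMonoidHom.mk'
    (fun l i => Groth.L18.TorusChars.pair (splitChar e (Multiplicative.ofAdd (g i))) ((Additive.toMul l : cochar T) : Red.Gm (Bs k) ⟶ T))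
    fun a b => funext fun i => pair_mul (hmem _) _ _
  refine Module.Finite.of_injective Ψ.toIntLinearMap ?_
  show Function.Injective Ψ
  rw [injective_iff_map_eq_zero]
  intro l hl
  refine Additive.toMul.injective (Subtype.ext (Groth.L14.HMProj.eq_one_of_gpt _ fun a => ?_))
  have key : ∀ m : M, splitChar e (Multiplicative.ofAdd m)
      (gpt a ≫ ((Additive.toMul l : cochar T) : Red.Gm (Bs k) ⟶ T)) = 1 := by
    intro m
    have hm : m ∈ AddSubgroup.closure (Set.range g) := hg ▸ AddSubgroup.mem_top m
    set s := gpt a ≫ ((Additive.toMul l : cochar T) : Red.Gm (Bs k) ⟶ T)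
    have hadd : ∀ x y : M, splitChar e (Multiplicative.ofAdd (x + y)) s =
        splitChar e (Multiplicative.ofAdd x) s * splitChar e (Multiplicative.ofAdd y) s := fun x y => by
      show gs _ = gs _ * gs _
      rw [ofAdd_add, map_mul, map_mul]
    induction hm using AddSubgroup.closure_induction with
    | mem x hx =>
      obtain ⟨i, rfl⟩ := hx
      rw [pair_spec (hmem _) _ a, show Groth.L18.TorusChars.pair _ _ = (0 : ℤ) from congrFun hl i, zpow_zero]
    | zero =>
      show gs _ = 1
      rw [ofAdd_zero, map_one, map_one]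
    | add x y _ _ hx hy => rw [hadd, hx, hy, _root_.one_mul]
    | neg x _ hx =>
      have := hadd x (-x)
      rw [add_neg_cancel, hx, _root_.one_mul] at this
      rw [← this]
      show gs _ = 1
      rw [ofAdd_zero, map_one, map_one]
  haveI : IsMonHom (eX e).hom := inferInstanceAs (IsMonHom e.hom.hom.hom)
  refine (cancel_mono (eX e).hom).1 (Groth.L25.DSPts.char_injective (MonoidHom.ext fun m => gs_injective ?_))
  rw [MonObj.one_comp, Groth.L25.DSPts.char_one, MonoidHom.one_apply, map_one]
  exact key m.toAdd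

variable {T}

omit [IsCommMonObj T] in
/-- A one-parameter subgroup is conjugate into a maximal torus. -/
theorem exists_conj_cochar {G : Over (Bs k)} [GrpObj G] [IsAffine G.left] [Smooth G.hom] [ConnectedSpace G.left]
    {i : T ⟶ G} (hi : AGF.IsMaxTorus i) (l : Red.Gm (Bs k) ⟶ G) [IsMonHom l] :
    ∃ (γ : Pt G) (lam : Red.Gm (Bs k) ⟶ T), IsMonHom lam ∧
      l = (toUnit _ ≫ γ) * (lam ≫ i) * (toUnit _ ≫ γ)⁻¹ := by
  haveI := hi.1; haveI := hi.2.1
  have hGm : Red.IsTorus (Red.Gm (Bs k)) := Groth.L14.RankOne.isTorus_gm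
  obtain ⟨hGa, hGs, hGc, -, -⟩ := Groth.L08.Borel.torus_props hGm
  haveI := hGa; haveI := hGs; haveI := hGc
  haveI : QuasiCompact (Red.Gm (Bs k)).hom := quasiCompact_of_compactSpace _
  haveI : LocallyOfFiniteType G.hom := inferInstance
  obtain ⟨C, gC, p, iC, hp, hiC, hpi, hps, hic, hCs, hCc, -⟩ := Groth.L08.Borel.exists_image_smooth l
  haveI := hp; haveI := hiC; haveI := hps; haveI := hic; haveI := hCs; haveI := hCc
  haveI : IsAffine C.left := isAffine_of_isAffineHom iC.left
  haveI : IsReduced C.left := Groth.Agent.AV.isReduced_of_smooth_field C.hom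
  haveI : LocallyOfFiniteType C.hom := inferInstance
  have hC : Red.IsTorus C := Groth.L08.Borel.isTorus_of_surjective_torus hGm p
  haveI : Mono iC := Groth.L08.mono_of_closedImmersion iC
  obtain ⟨g, f, hf⟩ := Groth.L08.Borel.maxTorus_absorbing hi C iC hC
  haveI := Groth.L08.Borel.isMonHom_conjBy g iC
  haveI : IsMonHom f := Groth.L08.Borel.isMonHom_of_comp_mono f i (AGF.conjBy g iC) hf
  refine ⟨g⁻¹, p ≫ f, inferInstance, ?_⟩
  have h1 : (p ≫ f) ≫ i = AGF.conjBy g l := by rw [Category.assoc, hf, Groth.L08.Borel.comp_conjBy, hpi]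
  rw [h1]
  exact (Groth.L08.Borel.conjBy_one l).symm.trans
    ((congrArg (fun q => AGF.conjBy q l) (inv_mul_cancel g).symm).trans (Groth.L08.Borel.conjBy_conjBy g⁻¹ g l).symm)

end Groth.L04.MuBound
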